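import Mathlib
import Groth.Agent.VarDim.Basic
import Groth.Prelude.Def_RegImm

universe u

open Order

namespace Groth.Agent.SmoothDim

theorem height_maximal_mvPolynomial (k : Type u) [Field k] (n : ℕ)
    (M : PrimeSpectrum (MvPolynomial (Fin n) k)) (hM : M.asIdeal.IsMaximal) : height M = n := by
  have hdim : ringKrullDim (MvPolynomial (Fin n) k) = n := by
    rw [MvPolynomial.ringKrullDim_of_isNoetherianRing, ringKrullDim_eq_zero_of_field]; simp
  have hc : coheight M = 0 := coheight_eq_zero.2 fun Q hQ => by
    exact (PrimeSpectrum.ext (hM.eq_of_le Q.isPrime.ne_top hQ)).ge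
  have := VarDim.height_add_coheight_eq k n _ hdim M
  rwa [hc, add_zero] at this

theorem ringKrullDim_eq (k B : Type u) [Field k] [CommRing B] [Algebra k B] [Nontrivial B]
    (n : ℕ) [Algebra.IsStandardSmoothOfRelativeDimension n k B] : ringKrullDim B = n := by
  obtain ⟨g, hg⟩ := Algebra.IsStandardSmoothOfRelativeDimension.exists_etale_mvPolynomial (n := n) k B
  let R := MvPolynomial (Fin n) k
  let : Algebra R B := g.toRingHom.toAlgebra
  have : IsScalarTower k R B := IsScalarTower.of_algebraMap_eq fun x => (g.commutes x).symm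
  have : Algebra.Etale R B := hg
  have : Algebra.FiniteType k B := Algebra.FiniteType.trans (S := R) inferInstance inferInstance
  apply le_antisymm
  · refine le_trans (Order.krullDim_le_of_strictMono (PrimeSpectrum.comap (algebraMap R B)) ?_) ?_
    · intro P Q hPQ
      refine lt_of_le_of_ne (Ideal.comap_mono hPQ.le) fun h => hPQ.ne (PrimeSpectrum.ext ?_)
      exact Algebra.QuasiFinite.eq_of_le_of_under_eq (R := R) _ _ hPQ.le (congrArg PrimeSpectrum.asIdeal h)
    · show ringKrullDim R ≤ n
      rw [MvPolynomial.ringKrullDim_of_isNoetherianRing, ringKrullDim_eq_zero_of_field]; simp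
  · have : IsNoetherianRing B := Algebra.FiniteType.isNoetherianRing k B
    obtain ⟨m, hm⟩ := Ideal.exists_maximal B
    have : IsJacobsonRing R := inferInstance
    let M : PrimeSpectrum R := ⟨m.under R, inferInstance⟩
    have hM : M.asIdeal.IsMaximal := by
      let _ := Ideal.Quotient.field m
      have : Module.Finite k (B ⧸ m) := finite_of_finite_type_of_isJacobsonRing k (B ⧸ m)
      have : Algebra.IsIntegral R (B ⧸ m) := Algebra.IsIntegral.tower_top k
      have h : ((⊥ : Ideal (B ⧸ m)).comap (algebraMap R (B ⧸ m))).IsMaximal :=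
        Ideal.isMaximal_comap_of_isIntegral_of_isMaximal _
      convert! h using 1
      show m.comap (algebraMap R B) = _
      rw [IsScalarTower.algebraMap_eq R B (B ⧸ m), ← Ideal.comap_comap, Ideal.Quotient.algebraMap_eq,
        ← RingHom.ker_eq_comap_bot, Ideal.mk_ker]
    have h1 : (M.asIdeal).height ≤ m.height := by
      rw [Ideal.height_eq_height_add_of_liesOver_of_hasGoingDown M.asIdeal m]
      exact le_self_add
    rw [M.height_eq_orderHeight, height_maximal_mvPolynomial k n M hM] at h1
    exact (WithBot.coe_le_coe.2 h1).trans (Ideal.height_le_ringKrullDim_of_ne_top hm.ne_top)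

theorem isGlobalCI_of_isStandardSmooth (k S : Type u) [Field k] [CommRing S] [Algebra k S]
    [Algebra.IsStandardSmooth k S] : Synt.IsGlobalCI k S := by
  rcases subsingleton_or_nontrivial S with h | h
  · exact Or.inl h
  obtain ⟨ι, σ, _, _, ⟨P⟩⟩ := ‹Algebra.IsStandardSmooth k S›.out
  have : Algebra.IsStandardSmoothOfRelativeDimension P.dimension k S :=
    ⟨ι, σ, inferInstance, inferInstance, P, rfl⟩
  let e := Finite.equivFin ι
  let e' := Finite.equivFin σ
  let ρ : MvPolynomial (Fin (Nat.card ι)) k ≃ₐ[k] MvPolynomial ι k := MvPolynomial.renameEquiv k e.symm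
  refine Or.inr ⟨Nat.card ι, Nat.card σ, Nat.card_le_card_of_injective P.map P.map_inj,
    (MvPolynomial.aeval P.val).comp ρ.toAlgHom, fun i => ρ.symm (P.relation (e'.symm i)), ?_, ?_, ?_⟩
  · exact P.aeval_val_surjective.comp ρ.surjective
  · have hk : RingHom.ker (MvPolynomial.aeval (R := k) P.val).toRingHom = Ideal.span (Set.range P.relation) :=
      (by rw [P.span_range_relation_eq_ker]; exact (Algebra.Generators.ker_eq_ker_aeval_val _).symm)
    have h2 : RingHom.ker ((MvPolynomial.aeval P.val).comp ρ.toAlgHom).toRingHom =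
        (RingHom.ker (MvPolynomial.aeval (R := k) P.val).toRingHom).comap ρ.toRingEquiv := rfl
    rw [h2, hk, ← Ideal.map_symm, Ideal.map_span, ← Set.range_comp]
    exact congrArg Ideal.span (e'.symm.surjective.range_comp (ρ.symm ∘ P.relation)).symm
  · rw [ringKrullDim_eq k S P.dimension]
    rfl

theorem isLCIOver_of_smooth (k S : Type u) [Field k] [CommRing S] [Algebra k S]
    [Algebra.Smooth k S] : Synt.IsLCIOver k S := by
  refine ⟨inferInstance, fun p => ?_⟩
  obtain ⟨g, hg, _⟩ := Algebra.IsSmoothAt.exists_notMem_isStandardSmooth k p.asIdeal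
  exact ⟨g, hg, isGlobalCI_of_isStandardSmooth k _⟩

end Groth.Agent.SmoothDim
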